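import Groth.Statements.S19497
import Groth.Agent.W7See.Main
import Groth.Agent.Chow.Core
import Groth.Agent.Rigid.Smooth
import Groth.Agent.ExtFund.Adjunction
import Groth.Agent.ExtFund.SmoothPn

/-!
Glue for the pluricanonical evaluation map: properness, flatness and fibre conditions.
-/

set_option autoImplicit false
universe u
open CategoryTheory CategoryTheory.Limits AlgebraicGeometry
open Canon

namespace Groth.Agent.W7SeeK

/-- A locally projective morphism is proper. -/
theorem isProper_of_isLocallyProjective {X S : Scheme.{u}} (f : X ⟶ S)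
    (h : RedSub.IsLocallyProjective (Over.mk f)) : IsProper f := by
  choose V hV N e he hc using h
  have hsup : iSup V = ⊤ := top_le_iff.1 fun s _ => TopologicalSpace.Opens.mem_iSup.2 ⟨s, hV s⟩
  refine (IsZariskiLocalAtTarget.iff_of_iSup_eq_top (P := @IsProper) V hsup).2 fun s => ?_
  have h1 : IsProper (pullback.snd f (V s).ι) := by
    change IsProper (Red.bc (V s).ι (Over.mk f)).hom
    rw [← hc s]
    haveI := he s
    haveI := Chow.isProper_toBase (N s) (V s : Scheme.{u})
    exact MorphismProperty.comp_mem _ _ _ inferInstance inferInstance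
  exact MorphismProperty.comp_mem _ _ _ (inferInstance : IsProper (pullbackRestrictIsoRestrict f (V s)).inv) h1

theorem isInvertible_pow {X S : Scheme.{u}} (f : X ⟶ S) (n : ℕ) [SmoothOfRelativeDimension n f] [QuasiSeparated f]
    {ω : X.Modules} (hω : Canon.IsTopDiff f n ω) (m : ℕ) : PicF.IsInvertible (CohB1.tensorPow ω m) :=
  TMul.isInvertible_tensorPow
    (ExtFund.isInvertible_of_hasDet (DetDeg.hasDet_of_isExtPow (ExtFund.isFinLocFreeOfRank_omega f n) hω)) m

end Groth.Agent.W7SeeK
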